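import Groth.Agent.AssLib.Points
import Groth.Agent.GoingDown.Dedekind
import Groth.Agent.GoingDown.Scheme

/-!
Flatness over a regular base of dimension at most one from the associated points.
-/

set_option autoImplicit false

universe u

open CategoryTheory AlgebraicGeometry

namespace Groth.Agent.CurvePush

/-- Restriction of germs to a generization with field stalk is injective on a domain stalk. -/
theorem stalkSpecializes_injective_of_isField {Y : Scheme.{u}} {z y : Y} (h : z ⤳ y)
    [IsDomain (Y.presheaf.stalk y)] (hz : IsField (Y.presheaf.stalk z)) :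
    Function.Injective (Y.presheaf.stalkSpecializes h).hom := by
  have hsub : Subsingleton (PrimeSpectrum (Y.presheaf.stalk z)) := by
    let := hz.toField; infer_instance
  let c : Spec (Y.presheaf.stalk z) := IsLocalRing.closedPoint (Y.presheaf.stalk z)
  let P : Spec (Y.presheaf.stalk y) := Spec.map (Y.presheaf.stalkSpecializes h) c
  let b : Spec (Y.presheaf.stalk y) := (⟨⊥, Ideal.isPrime_bot⟩ : PrimeSpectrum (Y.presheaf.stalk y))
  have hP : Y.fromSpecStalk y P = z := by
    show Y.fromSpecStalk y (Spec.map (Y.presheaf.stalkSpecializes h) c) = z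
    rw [← Scheme.Hom.comp_apply, Scheme.SpecMap_stalkSpecializes_fromSpecStalk]
    exact Scheme.fromSpecStalk_closedPoint
  have hbz : Y.fromSpecStalk y b ∈ Set.range (Y.fromSpecStalk z) := by
    rw [Scheme.range_fromSpecStalk]
    show Y.fromSpecStalk y b ⤳ z
    have := ((PrimeSpectrum.le_iff_specializes b P).mp bot_le).map (Y.fromSpecStalk y).continuous
    rwa [hP] at this
  obtain ⟨q, hq⟩ := hbz
  have hqc : q = c := hsub.elim _ _
  rw [hqc, show Y.fromSpecStalk z c = z from Scheme.fromSpecStalk_closedPoint, ← hP] at hq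
  have hPb : P = b := (Y.fromSpecStalk y).isEmbedding.injective hq
  rw [injective_iff_map_eq_zero]
  intro a ha
  have : a ∈ P.asIdeal := by
    show (Y.presheaf.stalkSpecializes h).hom a ∈ IsLocalRing.maximalIdeal (Y.presheaf.stalk z)
    rw [ha]
    exact Ideal.zero_mem _
  rw [hPb] at this
  exact (Submodule.mem_bot _).1 this

theorem flat_of_assPoints {X Y : Scheme.{u}} (f : X ⟶ Y) (hreg : ∀ y : Y, IsRegularLocalRing (Y.presheaf.stalk y))
    (hdim : ∀ y : Y, ringKrullDim (Y.presheaf.stalk y) ≤ 1)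
    (hass : ∀ x : X, Curv2.IsAssPoint (Coh.structureModule X) x → ringKrullDim (Y.presheaf.stalk (f x)) = 0) :
    Flat f := by
  rw [Flat.iff_flat_stalkMap]
  intro x
  obtain ⟨hdom, hpid⟩ := @GoingDown.isPrincipalIdealRing_of_regular _ _ (hreg (f x)) (hdim (f x))
  let := (f.stalkMap x).hom.toAlgebra
  show Module.Flat (Y.presheaf.stalk (f x)) (X.presheaf.stalk x)
  rw [Module.Flat.flat_iff_torsion_eq_bot_of_isBezout, Submodule.eq_bot_iff]
  rintro c ⟨⟨a, ha⟩, hac⟩
  have hac' : (f.stalkMap x).hom a * c = 0 := hac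
  by_contra hc
  have ha0 : a ≠ 0 := nonZeroDivisors.ne_zero ha
  obtain ⟨W, hxW, a₀, rfl⟩ := Y.presheaf.exists_germ_eq a
  obtain ⟨V, hxV, c₀, rfl⟩ := X.presheaf.exists_germ_eq c
  let V' : X.Opens := V ⊓ f ⁻¹ᵁ W
  let b : Γ(X, V') := (X.presheaf.map (homOfLE (inf_le_right : V' ≤ f ⁻¹ᵁ W)).op).hom ((f.app W).hom a₀)
  let c₁ : Γ(X, V') := (X.presheaf.map (homOfLE (inf_le_left : V' ≤ V)).op).hom c₀
  have hxV' : x ∈ V' := ⟨hxV, hxW⟩
  have hb : ∀ (y : X) (hy : y ∈ V'), (X.presheaf.germ V' y hy).hom b =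
      (f.stalkMap y).hom ((Y.presheaf.germ W (f y) hy.2).hom a₀) := fun y hy =>
    (X.presheaf.germ_res_apply _ _ _ _).trans (Scheme.Hom.germ_stalkMap_apply f W y hy.2 a₀).symm
  let c₂ : Γ(Coh.structureModule X, V') := c₁
  have hne : WeakAssLib.mgerm (Coh.structureModule X) hxV' c₂ ≠ 0 := by
    intro h
    obtain ⟨V₃, hx3, j₁, j₂, he3⟩ := TopCat.Presheaf.germ_eq (Coh.structureModule X).presheaf x hxV'
      hxV' c₂ 0 (h.trans (map_zero _).symm)
    rw [map_zero] at he3
    apply hc
    have h3 : (X.presheaf.map j₁.op).hom c₁ = 0 := he3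
    have h4 := congrArg (X.presheaf.germ V₃ x hx3).hom h3
    rw [map_zero] at h4
    refine Eq.trans ?_ h4
    exact ((X.presheaf.germ_res_apply j₁ _ _ _).trans (X.presheaf.germ_res_apply _ _ _ _)).symm
  have hbc : (X.presheaf.germ V' x hxV').hom (b * c₁) = 0 := by
    rw [map_mul, hb, show (X.presheaf.germ V' x hxV').hom c₁ = (X.presheaf.germ V x hxV).hom c₀ from
      X.presheaf.germ_res_apply _ _ _ _]
    exact hac'
  obtain ⟨V'', hxV'', iU, iV, he⟩ :=
    TopCat.Presheaf.germ_eq X.presheaf x hxV' hxV' (b * c₁) 0 (hbc.trans (map_zero _).symm)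
  rw [map_zero] at he
  let c₃ : Γ(Coh.structureModule X, V'') := (X.presheaf.map iU.op).hom c₁
  have hne' : WeakAssLib.mgerm (Coh.structureModule X) hxV'' c₃ ≠ 0 := by
    rw [show WeakAssLib.mgerm (Coh.structureModule X) hxV'' c₃ = WeakAssLib.mgerm (Coh.structureModule X) hxV' c₂
      from WeakAssLib.mgerm_res (Coh.structureModule X) iU.le hxV'' c₂]
    exact hne
  obtain ⟨y, hy, hyx, hyass, hyne⟩ := WeakAssLib.exists_weakAss (QC.isQCoh_unit X) hxV'' c₃ hne'
  have hd := hass y ((WeakAssLib.isAssPoint_iff _ y).mpr hyass)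
  obtain ⟨hdom', -⟩ := @GoingDown.isPrincipalIdealRing_of_regular _ _ (hreg (f y)) (hdim (f y))
  have hK : IsField (Y.presheaf.stalk (f y)) := by
    haveI : Ring.KrullDimLE 0 (Y.presheaf.stalk (f y)) := Ring.krullDimLE_iff.2 hd.le
    exact Ring.KrullDimLE.isField_of_isDomain
  refine hyne ?_
  have hsm : ((X.presheaf.map iU.op).hom b) • (c₃ : Γ(Coh.structureModule X, V'')) = 0 :=
    ((map_mul (X.presheaf.map iU.op).hom b c₁).symm.trans he :
      (X.presheaf.map iU.op).hom b * (X.presheaf.map iU.op).hom c₁ = 0)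
  have := WeakAssLib.mgerm_smul (Coh.structureModule X) hy ((X.presheaf.map iU.op).hom b) c₃
  have h0 := this.symm.trans
    ((congrArg (WeakAssLib.mgerm (Coh.structureModule X) hy) hsm).trans (map_zero _))
  have hu : (X.presheaf.germ V'' y hy).hom ((X.presheaf.map iU.op).hom b) =
      (f.stalkMap y).hom ((Y.presheaf.germ W (f y) (iU.le hy).2).hom a₀) :=
    (X.presheaf.germ_res_apply iU y hy b).trans (hb y (iU.le hy))
  rw [hu] at h0
  refine ((IsUnit.map (f.stalkMap y).hom ?_).smul_eq_zero).mp h0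
  refine hK.mul_inv_cancel ?_ |>.elim fun u hu => IsUnit.of_mul_eq_one u hu
  intro h1
  have hsp : f y ⤳ f x := hyx.map f.continuous
  refine ha0 (stalkSpecializes_injective_of_isField hsp hK ?_)
  rw [map_zero]
  show (Y.presheaf.germ W (f x) hxW ≫ Y.presheaf.stalkSpecializes hsp).hom a₀ = 0
  rw [TopCat.Presheaf.germ_stalkSpecializes]
  exact h1

end Groth.Agent.CurvePush
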